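import Groth.Agent.H8Lim.ProperIntoStage
import Groth.Agent.Coherent.NormalPush
import Groth.Agent.FlatMor12.ThickFinite

/-! Finite type descends along proper surjections (Noetherian). -/

set_option autoImplicit false
set_option backward.isDefEq.respectTransparency false
set_option backward.isDefEq.respectTransparency.types false

universe u

open CategoryTheory CategoryTheory.Limits AlgebraicGeometry

namespace Groth.Agent.FlatMor12.SubmFT

variable (R A : Type u) [CommRing R] [CommRing A] [Algebra R A]

noncomputable def adjSub (s : Finset A) : Subalgebra R A := Algebra.adjoin R (s : Set A)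

noncomputable def adjRingDiagram : Finset A ⥤ CommRingCat.{u} where
  obj s := CommRingCat.of (adjSub R A s)
  map {s t} h := CommRingCat.ofHom (Subalgebra.inclusion
    (Algebra.adjoin_mono (R := R) (Finset.coe_subset.mpr (leOfHom h)))).toRingHom
  map_id _ := by ext x; rfl
  map_comp _ _ := by ext x; rfl

noncomputable def adjRingCocone : Cocone (adjRingDiagram R A) where
  pt := CommRingCat.of A
  ι := { app := fun s ↦ CommRingCat.ofHom (adjSub R A s).val.toRingHom
         naturality := fun _ _ _ ↦ by ext x; rfl }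

noncomputable def isColimitAdjRingCocone : IsColimit (adjRingCocone R A) := by
  classical
  have : ReflectsColimit (adjRingDiagram R A) (forget CommRingCat.{u}) :=
    reflectsColimit_of_reflectsIsomorphisms _ _
  refine isColimitOfReflects (forget CommRingCat.{u}) (Types.FilteredColimit.isColimitOf _ _ ?_ ?_)
  · intro x
    exact ⟨{x}, ⟨x, Algebra.subset_adjoin (Finset.mem_coe.mpr (Finset.mem_singleton_self x))⟩, rfl⟩
  · intro i j xi xj h
    exact ⟨i ∪ j, homOfLE Finset.subset_union_left, homOfLE Finset.subset_union_right, Subtype.ext h⟩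

noncomputable def adjSpecDiagram : (Finset A)ᵒᵖ ⥤ Scheme.{u} := (adjRingDiagram R A).op ⋙ Scheme.Spec

noncomputable def adjSpecCone : Cone (adjSpecDiagram R A) := Scheme.Spec.mapCone (adjRingCocone R A).op

noncomputable def isLimitAdjSpecCone : IsLimit (adjSpecCone R A) :=
  isLimitOfPreserves Scheme.Spec (isColimitAdjRingCocone R A).op

instance {i j : (Finset A)ᵒᵖ} (f : i ⟶ j) : IsAffineHom ((adjSpecDiagram R A).map f) :=
  inferInstanceAs (IsAffineHom (Spec.map _))

instance (j : (Finset A)ᵒᵖ) : IsAffine ((adjSpecDiagram R A).obj j) :=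
  inferInstanceAs (IsAffine (Spec _))

theorem finiteType_of_isReduced [IsNoetherianRing R] [_root_.IsReduced A] {W : Scheme.{u}}
    (h : W ⟶ Spec (CommRingCat.of A)) [IsProper h] [Surjective h]
    [LocallyOfFiniteType (h ≫ Spec.map (CommRingCat.ofHom (algebraMap R A)))] : Algebra.FiniteType R A := by
  classical
  let D := adjSpecDiagram R A
  let c := adjSpecCone R A
  let h' : W ⟶ c.pt := h
  haveI : IsProper h' := ‹IsProper h›
  let i : (Finset A)ᵒᵖ := Opposite.op ∅
  haveI : CompactSpace (D.obj i) := inferInstanceAs (CompactSpace (Spec _ : Scheme.{u}))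
  haveI : LocallyOfFiniteType (h' ≫ c.π.app i) := by
    haveI : LocallyOfFiniteType ((h' ≫ c.π.app i) ≫
        Spec.map (CommRingCat.ofHom (algebraMap R (adjSub R A ∅)))) := by
      have e : c.π.app i ≫ Spec.map (CommRingCat.ofHom (algebraMap R (adjSub R A ∅))) =
          Spec.map (CommRingCat.ofHom (algebraMap R A)) := by
        change Spec.map (CommRingCat.ofHom (adjSub R A ∅).val.toRingHom) ≫ _ = _
        rw [← Spec.map_comp]
        rfl
      rw [Category.assoc, e]
      infer_instance
    exact locallyOfFiniteType_of_comp _ (Spec.map (CommRingCat.ofHom (algebraMap R (adjSub R A ∅))))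
  obtain ⟨j, -, hj⟩ := H8Lim.exists_isProper_comp_π (isLimitAdjSpecCone R A) i h'
  let A₀ := adjSub R A j.unop
  haveI : Algebra.FiniteType R A₀ := Algebra.FiniteType.adjoin_of_finite j.unop.finite_toSet
  haveI : IsNoetherianRing A₀ := Algebra.FiniteType.isNoetherianRing R _
  haveI : IsProper (h ≫ Spec.map (CommRingCat.ofHom A₀.val.toRingHom)) := hj
  let g := h ≫ Spec.map (CommRingCat.ofHom A₀.val.toRingHom)
  have hfin : (g.app ⊤).hom.Finite := Coherent.finite_app_of_isProper g (isAffineOpen_top _)
  let α : A →+* Γ(W, ⊤) := (h.appTop).hom.comp (Scheme.ΓSpecIso (CommRingCat.of A)).inv.hom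
  have hα : Function.Injective α := by
    rw [injective_iff_map_eq_zero]
    intro a ha
    apply IsReduced.eq_zero
    rw [← mem_nilradical, nilradical_eq_sInf, Submodule.mem_sInf]
    intro P hP
    obtain ⟨w, hw⟩ := h.surjective (⟨P, hP⟩ : PrimeSpectrum A)
    by_contra haP
    have hmem : h w ∈ PrimeSpectrum.basicOpen a := by rw [hw]; exact haP
    have h2 : w ∈ h ⁻¹ᵁ (Spec (CommRingCat.of A)).basicOpen ((Scheme.ΓSpecIso (CommRingCat.of A)).inv a) := by
      show h w ∈ (Spec (CommRingCat.of A)).basicOpen _
      rw [basicOpen_eq_of_affine (R := CommRingCat.of A) a]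
      exact hmem
    rw [Scheme.preimage_basicOpen] at h2
    change w ∈ W.basicOpen (α a) at h2
    rw [ha, Scheme.basicOpen_zero] at h2
    exact h2
  let β : A₀ →+* Γ(W, ⊤) := α.comp A₀.val.toRingHom
  have hβ : β.Finite := by
    have e : β = (g.app ⊤).hom.comp (Scheme.ΓSpecIso (CommRingCat.of A₀)).inv.hom := by
      have := Scheme.ΓSpecIso_inv_naturality (CommRingCat.ofHom A₀.val.toRingHom)
      ext a
      exact congrArg h.appTop.hom (congr($this a))
    rw [e]
    exact hfin.comp (RingHom.Finite.of_surjective _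
      (Scheme.ΓSpecIso (CommRingCat.of A₀)).symm.commRingCatIsoToRingEquiv.surjective)
  letI : Algebra A₀ Γ(W, ⊤) := β.toAlgebra
  haveI : Module.Finite A₀ Γ(W, ⊤) := hβ
  let αl : A →ₗ[A₀] Γ(W, ⊤) :=
    { toFun := α, map_add' := map_add α, map_smul' := fun r x => map_mul α (r : A) x }
  haveI : Module.Finite A₀ A := Module.Finite.of_injective αl hα
  exact Algebra.FiniteType.trans ‹Algebra.FiniteType R A₀› inferInstance

theorem finiteType_of_proper_surjective [IsNoetherianRing R] [IsNoetherianRing A] {W : Scheme.{u}}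
    (h : W ⟶ Spec (CommRingCat.of A)) [IsProper h] [Surjective h]
    [LocallyOfFiniteType (h ≫ Spec.map (CommRingCat.ofHom (algebraMap R A)))] : Algebra.FiniteType R A := by
  let N := nilradical A
  let q := Ideal.Quotient.mk N
  haveI : _root_.IsReduced (A ⧸ N) := (Ideal.isRadical_iff_quotient_reduced N).1 (Ideal.radical_isRadical _)
  let j := Spec.map (CommRingCat.ofHom q)
  haveI : IsClosedImmersion j := IsClosedImmersion.spec_of_surjective _ Ideal.Quotient.mk_surjective
  let h₁ := pullback.snd h j
  haveI : LocallyOfFiniteType (h₁ ≫ Spec.map (CommRingCat.ofHom (algebraMap R (A ⧸ N)))) := by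
    have e : h₁ ≫ Spec.map (CommRingCat.ofHom (algebraMap R (A ⧸ N))) =
        pullback.fst h j ≫ h ≫ Spec.map (CommRingCat.ofHom (algebraMap R A)) := by
      rw [pullback.condition_assoc]
      simp only [h₁, j, ← Spec.map_comp]
      rfl
    rw [e]
    infer_instance
  have hA : Algebra.FiniteType R (A ⧸ N) := finiteType_of_isReduced R (A ⧸ N) h₁
  refine RingHom.finiteType_algebraMap.1 (finiteType_of_nilpotent_fg (algebraMap R A) q
    Ideal.Quotient.mk_surjective ?_ (IsNoetherian.noetherian _) (RingHom.finiteType_algebraMap.2 hA))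
  rw [Ideal.mk_ker]
  exact IsNoetherianRing.isNilpotent_nilradical A

end Groth.Agent.FlatMor12.SubmFT
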